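import Cfsg.Agent.CharExt.Inertia
import Cfsg.Agent.CharExt.Gallagher
import Cfsg.Agent.CharExt.Extension
import Cfsg.Agent.CharExt.Linear
import Cfsg.Agent.CharExt.InvConstituent
import Cfsg.Agent.CharInd.Ito
import Cfsg.Agent.OddChar.Inertia
import Cfsg.Agent.CharGraph.PDegreeMain
import Cfsg.Agent.PSolv.Basic

/-!
# Degrees of the characters over a fixed character of a normal subgroup

If no degree over `θ` is divisible by `ℓ` and `θ` extends to its inertia group `T`, then `ℓ` does not
divide `|G : T|` and divides no degree of `T` modulo the normal subgroup.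
-/

set_option linter.style.haveILetI false

namespace Cfsg.Agent.CharGraph.Palfy

open Cfsg
open Cfsg.Agent.Char (irr_charDegree_spec)

universe u

variable {G : Type u} [Group G] [Finite G]

/-- The length of the orbit of a constituent divides the degree. -/
theorem index_dvd_degree (N : Subgroup G) [N.Normal] [Fintype N] {θ : N → ℂ}
    (hθ : IsIrrCharacter N θ) (χ : IrrCharacter G)
    (h : classInner (fun n : N => (χ : G → ℂ) n) θ ≠ 0) :
    (CharExt.inertia N θ).index ∣ charDegree (χ : G → ℂ) := by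
  letI := Fintype.ofFinite G
  obtain ⟨e, -, -, -, h1⟩ := CharExt.clifford_data N χ.2 hθ h
  refine ⟨e * charDegree θ, ?_⟩
  rw [(irr_charDegree_spec χ.2).2, (irr_charDegree_spec hθ).2] at h1
  have h2 : charDegree (χ : G → ℂ) = e * (CharExt.inertia N θ).index * charDegree θ := by
    exact_mod_cast h1
  rw [h2]
  ring

/-- Degrees over a character that extends to its inertia group. -/
theorem not_dvd_over (N T : Subgroup G) [N.Normal] [Fintype N] (hNT : N ≤ T) {θ : N → ℂ}
    (hθ : IsIrrCharacter N θ)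
    (hT : ∀ g : G, g ∈ T ↔ ∀ n : N,
      θ ⟨g * n * g⁻¹, Subgroup.Normal.conj_mem inferInstance (n : G) n.2 g⟩ = θ n)
    {ξ : T → ℂ} (hξ : IsIrrCharacter T ξ) (hext : ∀ n : N, ξ ⟨n, hNT n.2⟩ = θ n) {ℓ : ℕ}
    (h : ∀ χ : IrrCharacter G, classInner (fun n : N => (χ : G → ℂ) n) θ ≠ 0 →
      ¬ ℓ ∣ charDegree (χ : G → ℂ))
    {F : Type u} [Group F] [Finite F] (π : T →* F) (hπ : Function.Surjective π)
    (hker : ∀ n : N, π ⟨n, hNT n.2⟩ = 1) :
    ¬ ℓ ∣ T.index ∧ ∀ β : IrrCharacter F, ¬ ℓ ∣ charDegree (β : F → ℂ) := by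
  classical
  letI := Fintype.ofFinite G
  letI := Fintype.ofFinite T
  letI := Fintype.ofFinite (N.subgroupOf T)
  have key : ∀ β : IrrCharacter F,
      ¬ ℓ ∣ T.index * charDegree (β : F → ℂ) * charDegree θ := by
    intro β
    set β' : T → ℂ := fun t => (β : F → ℂ) (π t) with hβ'
    have hβ'i : IsIrrCharacter T β' := CharInd.irr_comp_surjective π hπ β.2
    have hinv : ∀ (n : N.subgroupOf T) (g : T), β' ((n : T) * g) = β' g := fun n g => by
      show (β : F → ℂ) (π _) = _
      rw [map_mul, show π (n : T) = 1 from hker ⟨(n : T), Subgroup.mem_subgroupOf.1 n.2⟩, one_mul]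
    have hres : IsIrrCharacter (N.subgroupOf T) (fun x : N.subgroupOf T => ξ x) := by
      have h1 := OddChar.irr_subgroupOf N T hNT hθ
      convert h1 using 2 with x
      exact hext ⟨((x : T) : G), Subgroup.mem_subgroupOf.1 x.2⟩
    have hψ := CharExt.isIrrCharacter_mul (N.subgroupOf T) ξ hξ hres hβ'i hinv
    obtain ⟨b, hb0, hb⟩ := Char.irr_one_pos β.2
    have hψN : ∀ n : N, (β' * ξ) ⟨n, hNT n.2⟩ = (b : ℂ) * θ n := fun n => by
      show (β : F → ℂ) (π _) * ξ _ = _
      rw [hker, hb, hext]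
    have hc : classInner (fun n : N => (β' * ξ) ⟨n, hNT n.2⟩) θ ≠ 0 := by
      rw [show (fun n : N => (β' * ξ) ⟨n, hNT n.2⟩) = (b : ℂ) • θ from funext hψN,
        Char.classInner_smul_left, Char.classInner_irr_self hθ, mul_one]
      exact_mod_cast hb0.ne'
    have hind := OddChar.indFun_inertia_irr N T hNT hθ hT hψ hc
    have hover : classInner (fun n : N => indFun T (β' * ξ) n) θ ≠ 0 := by
      rw [OddChar.classInner_ind_res N T hNT hθ hT (e := b) hψN]
      exact_mod_cast hb0.ne'
    have hd := h ⟨_, hind⟩ hover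
    have h1 : indFun T (β' * ξ) 1 = ((T.index * charDegree (β : F → ℂ) * charDegree θ : ℕ) : ℂ) := by
      have hξ1 := hext 1
      rw [show (⟨((1 : N) : G), hNT (1 : N).2⟩ : T) = 1 from rfl] at hξ1
      rw [CharInd.indFun_one_apply, Pi.mul_apply, hξ1, (irr_charDegree_spec hθ).2,
        show β' 1 = (β : F → ℂ) 1 by rw [hβ']; simp, (irr_charDegree_spec β.2).2]
      push_cast
      ring
    intro hdvd
    apply hd
    have h2 := (irr_charDegree_spec hind).2
    rw [h1] at h2
    rw [show charDegree (indFun T (β' * ξ)) =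
      T.index * charDegree (β : F → ℂ) * charDegree θ from (Nat.cast_inj.1 h2).symm]
    exact hdvd
  refine ⟨fun hd => key (Char.trivialIrr F) ?_, fun β hd => key β ?_⟩
  · exact dvd_mul_of_dvd_left (dvd_mul_of_dvd_left hd _) _
  · exact dvd_mul_of_dvd_left (dvd_mul_of_dvd_right hd _) _

/-- An invariant character of a normal Hall subgroup extends. -/
theorem exists_extension_coprime (N : Subgroup G) [N.Normal] {θ : N → ℂ}
    (hθ : IsIrrCharacter N θ)
    (hinv : ∀ (g : G) (n : N), θ (CharExt.cj N g n) = θ n)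
    (hc : N.index.Coprime (Nat.card N)) :
    ∃ ξ : G → ℂ, IsIrrCharacter G ξ ∧ ∀ n : N, ξ n = θ n := by
  letI := Fintype.ofFinite G
  letI := Fintype.ofFinite N
  obtain ⟨d, -, hd, hdv⟩ := Char.irr_degree_dvd_card hθ
  have hlin := CharExt.detChar_isLin θ
  have hord : orderOf hlin.toHom ∣ Nat.card N := by
    refine orderOf_dvd_of_pow_eq_one (MonoidHom.ext fun n => ?_)
    show hlin.toHom n ^ Nat.card N = 1
    rw [← map_pow, pow_card_eq_one', map_one]
  obtain ⟨μ, ⟨hμ, -⟩, -⟩ := CharExt.exists_unique_coprime_extension N hlin.toHom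
    (fun g n => Units.ext (CharExt.detChar_inv N (Char.isCharacter_of_irr hθ) hinv g n))
    (hc.coprime_dvd_right hord)
  obtain ⟨ξ, hξ, hres, -⟩ := CharExt.exists_char_extension N θ hθ hinv d hd
    (hc.coprime_dvd_right hdv) (CharExt.homVal μ) (CharExt.homVal_isLin μ) (fun n => by
      show (μ n : ℂ) = _
      rw [hμ]; rfl)
  exact ⟨ξ, hξ, hres⟩

/-- With no degree divisible by a prime, the Sylow subgroups for it are normal and abelian. -/
theorem sylow_normal_of_not_dvd [Group.IsSolvable G] {ℓ : ℕ} [Fact ℓ.Prime]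
    (h : ∀ χ : IrrCharacter G, ¬ ℓ ∣ charDegree (χ : G → ℂ)) (P : Sylow ℓ G) :
    (P : Subgroup G).Normal ∧ ∀ x ∈ (P : Subgroup G), ∀ y ∈ (P : Subgroup G), Commute x y := by
  obtain ⟨h1, h2⟩ := (pSolvable_degree_bound (PSolv.isPSolvable_of_isSolvable
    (inferInstance : Group.IsSolvable G)) P).1 (degP_eq_zero h)
  refine ⟨h1, fun x hx y hy => ?_⟩
  rw [commutator_eq_bot_iff_center_eq_top] at h2
  exact congrArg Subtype.val
    (Subgroup.mem_center_iff.1 (h2 ▸ Subgroup.mem_top (⟨y, hy⟩ : (P : Subgroup G))) ⟨x, hx⟩)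

/-- A degree divides the index of a normal abelian subgroup. -/
theorem degree_dvd_index (A : Subgroup G) [A.Normal]
    (hA : ∀ a ∈ A, ∀ b ∈ A, Commute a b) (χ : IrrCharacter G) :
    charDegree (χ : G → ℂ) ∣ A.index := by
  obtain ⟨n, ρ, hρ, hρχ⟩ := χ.2
  haveI := hρ
  have h1 : charDegree (χ : G → ℂ) = Module.finrank ℂ (Fin n → ℂ) := by
    rw [← hρχ, charDegree, Representation.char_one]
    simp
  rw [h1]
  exact CharInd.finrank_dvd_index_of_comm_normal ρ A hA

end Cfsg.Agent.CharGraph.Palfy
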